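import Cfsg.Agent.Lib.H21.W2P.Main
import Cfsg.Agent.Lib.H22.W2PNTRANS
import Cfsg.Agent.Lib.H22.W2PBURN
import Cfsg.Agent.Lib.H15.W2PSGN
import Cfsg.Agent.Lib.H13.W2PFIN
import Cfsg.Agent.Lib.H9.W2PRES

/-!
# S0720 (Wielandt, degree `2p`): the case of rank at least 4 is impossible (helper21)

`L := G ⊓ Alt` has index at most 2, its normaliser of `⟨x⟩` preserves the `⟨x⟩`-orbits (SGN); the main lemma
gives a second fixed point of `L_a`, contradicting primitivity (FIN).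
-/

set_option autoImplicit false

namespace Cfsg.Agent.Lib.H21.W2P

open Cfsg Cfsg.Agent.Lib.H4.CentRing

/-- Membership in an orbit of a cyclic subgroup. -/
theorem mem_orbit_zpowers_iff {M : Type*} [Group M] {Ω : Type*} [MulAction M Ω] (g : M) (a b : Ω) :
    b ∈ MulAction.orbit (Subgroup.zpowers g) a ↔ ∃ k : ℤ, g ^ k • a = b := by
  constructor
  · rintro ⟨⟨y, hy⟩, rfl⟩
    obtain ⟨k, rfl⟩ := Subgroup.mem_zpowers_iff.mp hy
    exact ⟨k, rfl⟩
  · rintro ⟨k, rfl⟩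
    exact ⟨⟨g ^ k, Subgroup.zpow_mem_zpowers g k⟩, rfl⟩

/-- The sign of a permutation of odd order is `1`. -/
theorem sign_eq_one_of_orderOf_odd {α : Type*} [Fintype α] [DecidableEq α] (x : Equiv.Perm α)
    (h : Odd (orderOf x)) : Equiv.Perm.sign x = 1 := by
  have h1 : Equiv.Perm.sign x ^ orderOf x = 1 := by
    rw [← map_pow, pow_orderOf_eq_one, map_one]
  rcases Int.units_eq_one_or (Equiv.Perm.sign x) with h2 | h2
  · exact h2
  · rw [h2, Odd.neg_one_pow h] at h1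
    exact absurd h1 (by decide)

/-- The rank does not decrease on passing to a subgroup. -/
theorem rank_le_of_le {α : Type*} [Finite α] (G L : Subgroup (Equiv.Perm α)) (hLG : L ≤ G)
    (a : α) :
    Nat.card (MulAction.orbitRel.Quotient (MulAction.stabilizer G a) α) ≤
      Nat.card (MulAction.orbitRel.Quotient (MulAction.stabilizer L a) α) := by
  apply Nat.card_le_card_of_surjective
    (Quotient.map' (s₁ := MulAction.orbitRel (MulAction.stabilizer L a) α)
      (s₂ := MulAction.orbitRel (MulAction.stabilizer G a) α) id ?_)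
  · intro q
    induction q using Quotient.inductionOn' with
    | h y => exact ⟨Quotient.mk'' y, rfl⟩
  · intro y z hyz
    rw [MulAction.orbitRel_apply] at hyz ⊢
    obtain ⟨⟨l, hl⟩, rfl⟩ := hyz
    refine ⟨⟨⟨l.1, hLG l.2⟩, ?_⟩, rfl⟩
    rw [MulAction.mem_stabilizer_iff] at hl ⊢
    exact hl

/-- The last step: `|X| ≥ 2` is impossible. -/
theorem false_of_rank_ge_four {α : Type*} [Fintype α] [DecidableEq α] {p : ℕ} (hp : p.Prime)
    (hp2 : p ≠ 2) (hα : Fintype.card α = 2 * p) (G : Subgroup (Equiv.Perm α)) [Fintype G]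
    (hG : MulAction.IsPreprimitive G α) (hp2G : ¬ p ^ 2 ∣ Nat.card G) (x : Equiv.Perm α)
    (hxG : x ∈ G) (hox : orderOf x = p) (hfpf : ∀ a : α, x a ≠ a)
    (hcent : ∀ c ∈ G, c * x = x * c → c ∈ Subgroup.zpowers x)
    (χ₁ : G → ℂ) (h₁ : IsIrrCharacter G χ₁) (hin : classInner (permCh G α) χ₁ ≠ 0)
    (hdeg : χ₁ 1 = (p : ℂ)) (hvan : ∀ k : ℕ, ¬ p ∣ k → χ₁ ((⟨x, hxG⟩ : G) ^ k) = 0) (a₀ : α)
    (hrank : 4 ≤ Nat.card (MulAction.orbitRel.Quotient (MulAction.stabilizer G a₀) α)) :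
    False := by
  classical
  have hodd : Odd p := hp.odd_of_ne_two hp2
  -- the subgroup `L`
  obtain ⟨L, hL⟩ : ∃ L : Subgroup (Equiv.Perm α), L = G ⊓ alternatingGroup α := ⟨_, rfl⟩
  have hLG : L ≤ G := by rw [hL]; exact inf_le_left
  have hLA : ∀ l ∈ L, Equiv.Perm.sign l = 1 := by
    intro l hl
    rw [hL, Subgroup.mem_inf] at hl
    exact Equiv.Perm.mem_alternatingGroup.mp hl.2
  have hnorm : ∀ g ∈ G, ∀ l ∈ L, g * l * g⁻¹ ∈ L := by
    intro g hg l hl
    rw [hL, Subgroup.mem_inf] at hl ⊢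
    refine ⟨G.mul_mem (G.mul_mem hg hl.1) (G.inv_mem hg), ?_⟩
    rw [Equiv.Perm.mem_alternatingGroup, map_mul, map_mul, map_inv,
      Equiv.Perm.mem_alternatingGroup.mp hl.2]
    simp
  have hxL : x ∈ L := by
    rw [hL, Subgroup.mem_inf]
    exact ⟨hxG, Equiv.Perm.mem_alternatingGroup.mpr
      (sign_eq_one_of_orderOf_odd x (by rw [hox]; exact hodd))⟩
  have _instL : Fintype L := Fintype.ofFinite _
  have hidx : Nat.card G ≤ 2 * Nat.card L := by
    -- the sign homomorphism on `G` has kernel `L`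
    let f : G →* ℤˣ := Equiv.Perm.sign.comp G.subtype
    have hker : Nat.card f.ker = Nat.card L := by
      apply Nat.card_congr
      refine ⟨fun y => ⟨y.1.1, ?_⟩, fun l => ⟨⟨l.1, hLG l.2⟩, ?_⟩, fun y => rfl, fun l => rfl⟩
      · rw [hL, Subgroup.mem_inf]
        refine ⟨y.1.2, ?_⟩
        have := y.2
        rw [MonoidHom.mem_ker] at this
        exact Equiv.Perm.mem_alternatingGroup.mpr this
      · rw [MonoidHom.mem_ker]
        exact hLA l.1 l.2
    have h1 := Subgroup.card_eq_card_quotient_mul_card_subgroup f.ker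
    have h2 : Nat.card (G ⧸ f.ker) ≤ 2 := by
      rw [Nat.card_congr (QuotientGroup.quotientKerEquivRange f).toEquiv]
      calc Nat.card f.range ≤ Nat.card ℤˣ := Nat.card_le_card_of_injective _ Subtype.val_injective
        _ = 2 := by simp
    rw [h1, hker]
    exact Nat.mul_le_mul_right _ h2
  have hx1 : x ≠ 1 := by
    intro h
    rw [h, orderOf_one] at hox
    exact hp.one_lt.ne hox
  have hLbot : L ≠ ⊥ := by
    intro h
    rw [h, Subgroup.mem_bot] at hxL
    exact hx1 hxL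
  have htr : MulAction.IsPretransitive L α := Cfsg.Agent.Lib.H22.W2P.normal_trans G hG L hLG hnorm hLbot
  have hp2L : ¬ p ^ 2 ∣ Nat.card L := fun h =>
    hp2G (h.trans (Subgroup.card_dvd_of_le hLG))
  have hcentL : ∀ c ∈ L, c * x = x * c → c ∈ Subgroup.zpowers x :=
    fun c hc => hcent c (hLG hc)
  obtain ⟨n₀, hn₀L, hn₀, hn₀'⟩ := Cfsg.Agent.Lib.H22.W2P.normalizer_ne hp hp2 hα G hG L hLG hnorm hp2L x hxL hox hcentL
  obtain ⟨hirrL, hinL⟩ := Cfsg.Agent.Lib.H9.W2P.restrict_chi_one G L hLG hidx χ₁ h₁ hodd hdeg hin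
  -- apply the main lemma to `↥L`
  set xL : L := ⟨x, hxL⟩ with hxLdef
  have hoxL : orderOf xL = p := by rw [← hox]; exact Subgroup.orderOf_mk x hxL
  have hfpfL : ∀ a : α, xL • a ≠ a := fun a => hfpf a
  have hmemz : ∀ c : L, (c : Equiv.Perm α) ∈ Subgroup.zpowers x → c ∈ Subgroup.zpowers xL := by
    intro c hc
    obtain ⟨k, hk⟩ := Subgroup.mem_zpowers_iff.mp hc
    refine Subgroup.mem_zpowers_iff.mpr ⟨k, ?_⟩
    apply Subtype.ext
    rw [Subgroup.coe_zpow]
    exact hk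
  have hmemz' : ∀ c : L, c ∈ Subgroup.zpowers xL → (c : Equiv.Perm α) ∈ Subgroup.zpowers x := by
    intro c hc
    obtain ⟨k, hk⟩ := Subgroup.mem_zpowers_iff.mp hc
    refine Subgroup.mem_zpowers_iff.mpr ⟨k, ?_⟩
    rw [← hk, Subgroup.coe_zpow]
  have horb : ∀ b : α, b ∈ MulAction.orbit (Subgroup.zpowers xL) a₀ ↔
      b ∈ MulAction.orbit (Subgroup.zpowers x) a₀ := by
    intro b
    rw [mem_orbit_zpowers_iff, mem_orbit_zpowers_iff]
    constructor
    · rintro ⟨k, hk⟩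
      refine ⟨k, ?_⟩
      rw [← hk]
      show (x ^ k) a₀ = ((xL ^ k : L) : Equiv.Perm α) a₀
      rw [Subgroup.coe_zpow]
    · rintro ⟨k, hk⟩
      refine ⟨k, ?_⟩
      rw [← hk]
      show ((xL ^ k : L) : Equiv.Perm α) a₀ = (x ^ k) a₀
      rw [Subgroup.coe_zpow]
  have hcentL' : ∀ c : L, c * xL = xL * c → c ∈ Subgroup.zpowers xL := by
    intro c hc
    apply hmemz
    apply hcentL c.1 c.2
    have := congrArg Subtype.val hc
    simpa using this
  have hNL : ∃ n : L, n * xL * n⁻¹ ∈ Subgroup.zpowers xL ∧ n ∉ Subgroup.zpowers xL := by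
    refine ⟨⟨n₀, hn₀L⟩, ?_, ?_⟩
    · apply hmemz
      simpa using hn₀
    · intro h
      exact hn₀' (hmemz' _ h)
  have hvanL : ∀ k : ℕ, ¬ p ∣ k →
      (fun l : L => χ₁ (Subgroup.inclusion hLG l)) (xL ^ k) = 0 := by
    intro k hk
    show χ₁ (Subgroup.inclusion hLG (xL ^ k)) = 0
    rw [map_pow]
    exact hvan k hk
  have hdegL : (fun l : L => χ₁ (Subgroup.inclusion hLG l)) 1 = (p : ℂ) := by
    simpa using hdeg
  have hrankL : 4 ≤ Nat.card (MulAction.orbitRel.Quotient (MulAction.stabilizer L a₀) α) :=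
    hrank.trans (rank_le_of_le G L hLG a₀)
  have hnsL : ∀ n : L, n * xL * n⁻¹ ∈ Subgroup.zpowers xL →
      n • a₀ ∈ MulAction.orbit (Subgroup.zpowers xL) a₀ := by
    intro n hn
    rw [horb]
    by_contra hcon
    have h1 : (n : Equiv.Perm α) * x * (n : Equiv.Perm α)⁻¹ ∈ Subgroup.zpowers x := by
      have := hmemz' _ hn
      simpa using this
    have h2 := Cfsg.Agent.Lib.H15.W2P.sign_of_swap hp hp2 hα x n.1 hox hfpf h1 a₀ hcon
    rw [hLA n.1 n.2] at h2
    exact absurd h2 (by decide)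
  obtain ⟨b, hb, hfix⟩ := main_lemma (L := L) (Ω := α) hp hα xL hoxL hfpfL hcentL' hNL _ hirrL hinL
    hdegL hvanL a₀ hrankL hnsL
  rw [horb] at hb
  refine Cfsg.Agent.Lib.H13.W2P.false_of_fixed hp hp2 hα G hG L hLG hnorm htr x hxL hox hfpf a₀ b hb ?_
  intro l hl hla
  exact hfix ⟨l, hl⟩ (MulAction.mem_stabilizer_iff.mpr hla)

end Cfsg.Agent.Lib.H21.W2P
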