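import Cfsg.Agent.S0719

/-!
# S0720 (Wielandt, degree `2p`): shared definitions (helper21)

`Dec L Ω p x χ₁ X`: the permutation character of `L` on `Ω` is `1 + χ₁ + ∑_{ψ ∈ X} ψ`, multiplicity
free, `χ₁` of degree `p` vanishing on the non-identity powers of `x`, the members of `X` having no
trivial constituent on `⟨x⟩`.
-/

set_option autoImplicit false

namespace Cfsg.Agent.Lib.H21.W2P

open Cfsg Cfsg.Agent.Lib.H4.CentRing

/-- Decomposition data for the permutation character of a transitive group of degree `2p` with an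
element `x` of order `p` without fixed points (case `c₁ = 1`). -/
structure Dec (L : Type*) [Group L] [Fintype L] (Ω : Type*) [MulAction L Ω] (p : ℕ) (x : L)
    (χ₁ : L → ℂ) (X : Finset (IrrCharacter L)) : Prop where
  irr₁ : IsIrrCharacter L χ₁
  mult₁ : classInner (permCh L Ω) χ₁ = 1
  deg₁ : χ₁ 1 = (p : ℂ)
  van₁ : ∀ k : ℕ, ¬ p ∣ k → χ₁ (x ^ k) = 0
  ne₁ : χ₁ ≠ fun _ => 1
  mem : ∀ ψ : IrrCharacter L, ψ ∈ X ↔ (classInner (permCh L Ω) (ψ : L → ℂ) ≠ 0 ∧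
    (ψ : L → ℂ) ≠ (fun _ => 1) ∧ (ψ : L → ℂ) ≠ χ₁)
  mult : ∀ ψ ∈ X, classInner (permCh L Ω) (ψ : L → ℂ) = 1
  sumP : ∀ ψ ∈ X, ∑ k ∈ Finset.range p, (ψ : L → ℂ) (x ^ k) = 0
  eq : permCh L Ω = fun g => 1 + χ₁ g + ∑ ψ ∈ X, (ψ : L → ℂ) g

end Cfsg.Agent.Lib.H21.W2P
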