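import Cfsg.Agent.Lib.H21.W2P.Defs
import Cfsg.Agent.Lib.H4.W2PDEC
import Cfsg.Agent.Lib.H21.W2PEXC
import Cfsg.Agent.Lib.H15.W2PCNT
import Cfsg.Agent.Lib.H4.W2PV1

/-!
# S0720 (Wielandt, degree `2p`): the main lemma (helper21), assembled from the pieces DEC, EXC, CNT, V1
-/

set_option autoImplicit false

namespace Cfsg.Agent.Lib.H21.W2P

open Cfsg Cfsg.Agent.Lib.H4.CentRing

/-- Main lemma: in a transitive group of degree `2p` with self-centralising, non-self-normalising `⟨x⟩` whose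
normaliser preserves the `⟨x⟩`-orbit of `a`, with `c₁ = 1` and rank at least 4, the stabiliser of `a` fixes a
point outside the `⟨x⟩`-orbit of `a`. -/
theorem main_lemma {L : Type*} [Group L] [Fintype L] {Ω : Type*} [Fintype Ω] [DecidableEq Ω]
    [MulAction L Ω] [MulAction.IsPretransitive L Ω] {p : ℕ} (hp : p.Prime)
    (hΩ : Fintype.card Ω = 2 * p) (x : L) (hox : orderOf x = p) (hfpf : ∀ a : Ω, x • a ≠ a)
    (hcent : ∀ c : L, c * x = x * c → c ∈ Subgroup.zpowers x)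
    (hN : ∃ n : L, n * x * n⁻¹ ∈ Subgroup.zpowers x ∧ n ∉ Subgroup.zpowers x)
    (χ₁ : L → ℂ) (h₁ : IsIrrCharacter L χ₁) (hin : classInner (permCh L Ω) χ₁ ≠ 0)
    (hdeg : χ₁ 1 = (p : ℂ)) (hvan : ∀ k : ℕ, ¬ p ∣ k → χ₁ (x ^ k) = 0) (a : Ω)
    (hrank : 4 ≤ Nat.card (MulAction.orbitRel.Quotient (MulAction.stabilizer L a) Ω))
    (hns : ∀ n : L, n * x * n⁻¹ ∈ Subgroup.zpowers x →
      n • a ∈ MulAction.orbit (Subgroup.zpowers x) a) :
    ∃ b : Ω, b ∉ MulAction.orbit (Subgroup.zpowers x) a ∧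
      ∀ h ∈ MulAction.stabilizer L a, h • b = b := by
  classical
  obtain ⟨X, hD, hr⟩ := Cfsg.Agent.Lib.H4.W2P.decomp hp hΩ x hox hfpf χ₁ h₁ hin hdeg hvan a
  have hX : 2 ≤ X.card := by omega
  -- the order of the normaliser
  have hle : Subgroup.zpowers x ≤ Subgroup.normalizer ((Subgroup.zpowers x : Subgroup L) : Set L) :=
    Subgroup.le_normalizer
  obtain ⟨e, he⟩ : ∃ e : ℕ,
      Nat.card (Subgroup.normalizer ((Subgroup.zpowers x : Subgroup L) : Set L)) = p * e := by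
    have h1 := Subgroup.card_dvd_of_le hle
    rw [Nat.card_zpowers, hox] at h1
    exact h1
  have hdegX := exc_degree hp hΩ x hox hfpf hcent hN e he χ₁ X hD hX
  -- `|X| * e = p - 1`
  have hse : X.card * e = p - 1 := by
    have h1 := congrFun hD.eq 1
    have h2 : permCh L Ω 1 = ((2 * p : ℕ) : ℂ) := by
      rw [permCh, ← hΩ]
      congr 1
      rw [← Nat.card_eq_fintype_card]
      apply Nat.card_congr
      refine ⟨fun y => y.1, fun y => ⟨y, ?_⟩, fun y => rfl, fun y => rfl⟩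
      simp
    rw [h2, hD.deg₁, Finset.sum_congr rfl hdegX, Finset.sum_const, nsmul_eq_mul] at h1
    have h3 : ((2 * p : ℕ) : ℂ) = ((1 + p + X.card * e : ℕ) : ℂ) := by
      rw [h1]; push_cast; ring
    have h4 : 2 * p = 1 + p + X.card * e := by exact_mod_cast h3
    omega
  obtain ⟨b, hba, hbip⟩ := Cfsg.Agent.Lib.H15.W2P.exists_bipartite hp hΩ x hox hfpf hcent e X.card he hse a hns hr
  refine ⟨b, ?_, Cfsg.Agent.Lib.H4.W2P.valency_one hp hΩ x hox hfpf e χ₁ X hD hdegX a b hba hbip⟩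
  have := hbip 1 (one_mem _)
  rwa [one_smul] at this

end Cfsg.Agent.Lib.H21.W2P
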